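import Cfsg.Agent.TwoFpf.Classify

/-!
`2`-groups with commuting automorphisms `t` of order two and `ρ` of order three whose fixed points
of `t` form a central four-group on which `ρ` has no fixed point.
-/

set_option autoImplicit false
set_option maxHeartbeats 600000

open scoped commutatorElement

namespace CfsgLib.TwoFpf

universe u

/-- An involutory automorphism of a nontrivial `2`-group fixes a nonidentity element. -/
theorem exists_fixed_ne_one {T : Type*} [Group T] [Finite T] (hT : IsPGroup 2 T) [Nontrivial T]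
    {t : MulAut T} (ht : ∀ x, t (t x) = x) : ∃ x : T, x ≠ 1 ∧ t x = x := by
  classical
  haveI : Fintype T := Fintype.ofFinite _
  haveI : Fact (Nat.Prime 2) := ⟨Nat.prime_two⟩
  by_contra hcon
  push Not at hcon
  let σ : Equiv.Perm T := t.toEquiv
  have hσ : σ ^ 2 ^ 1 = 1 := by
    ext v
    show t (t v) = v
    exact ht v
  have key : σ.supportᶜ = {1} := by
    ext v
    simp only [Finset.mem_compl, Equiv.Perm.mem_support, not_not, Finset.mem_singleton]
    refine ⟨fun h => by_contra fun h1 => hcon v h1 h, ?_⟩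
    rintro rfl
    exact map_one t
  have h1 := Equiv.Perm.card_compl_support_modEq (p := 2) hσ
  rw [key, Finset.card_singleton, ← Nat.card_eq_fintype_card] at h1
  obtain ⟨k, hk⟩ := IsPGroup.iff_card.1 hT
  rcases k with _ | k
  · rw [pow_zero] at hk
    exact absurd hk (Finite.one_lt_card (α := T)).ne'
  · rw [hk, Nat.ModEq] at h1
    simp [pow_succ] at h1

/-- The invariant four-group forces `ρ` to have no fixed point. -/
theorem isFpfThree_of_fixed {T : Type*} [Group T] [Finite T] (hT : IsPGroup 2 T) {t ρ : MulAut T}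
    (ht : ∀ x, t (t x) = x) (hρ : ∀ x, ρ (ρ (ρ x)) = x) (hcomm : ∀ x, t (ρ x) = ρ (t x))
    {V : Subgroup T} (hfixV : ∀ x ∈ V, ρ x = x → x = 1) (hCt : ∀ x, t x = x → x ∈ V) :
    IsFpfThree ρ := by
  refine ⟨hρ, fun x hx => ?_⟩
  let C : Subgroup T :=
    { carrier := {y | ρ y = y}
      one_mem' := map_one ρ
      mul_mem' := fun {a b} ha hb => by
        show ρ (a * b) = a * b
        rw [map_mul, show ρ a = a from ha, show ρ b = b from hb]
      inv_mem' := fun {a} ha => by
        show ρ a⁻¹ = a⁻¹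
        rw [map_inv, show ρ a = a from ha] }
  by_contra hx1
  haveI : Nontrivial ↥C := ⟨⟨x, hx⟩, 1, fun h => hx1 (congrArg Subtype.val h)⟩
  have htC : ∀ y ∈ C, t y ∈ C := fun y hy => by
    show ρ (t y) = t y
    rw [← hcomm, show ρ y = y from hy]
  let t' : MulAut ↥C :=
    { toFun := fun y => ⟨t y, htC y y.2⟩
      invFun := fun y => ⟨t y, htC y y.2⟩
      left_inv := fun y => Subtype.ext (ht y)
      right_inv := fun y => Subtype.ext (ht y)
      map_mul' := fun a b => Subtype.ext (map_mul t (a : T) b) }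
  obtain ⟨y, hy1, hy⟩ := exists_fixed_ne_one (hT.to_subgroup C) (t := t') (fun y => Subtype.ext (ht y))
  exact hy1 (Subtype.ext (hfixV _ (hCt _ (congrArg Subtype.val hy)) y.2))

/-- The classification. -/
theorem classify_tower_aux (N : ℕ) : ∀ (T : Type u) [Group T] [Finite T], Nat.card T = N →
    IsPGroup 2 T → ∀ (t ρ : MulAut T) (V : Subgroup T), (∀ x, t (t x) = x) →
      (∀ x, t (ρ x) = ρ (t x)) → IsFpfThree ρ → IsFour ρ V → (∀ x, t x = x ↔ x ∈ V) →
      (Nat.card T = 16 ∧ ∀ x : T, x * x = 1) ∨ IsHomocyclic ρ ∨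
        (IsSq64 ρ V ∧ ∃ a b : T, a * b ≠ b * a) := by
  induction N using Nat.strong_induction_on with
  | _ N ih =>
  intro T _ _ hN hT t ρ V ht hcomm hf hV hCt
  classical
  haveI : Fact (Nat.Prime 2) := ⟨Nat.prime_two⟩
  haveI hVn : V.Normal := ⟨fun w hw g => by
    rw [← (hV.comm hw g).eq, mul_inv_cancel_right]; exact hw⟩
  have hcardT : Nat.card T = Nat.card (T ⧸ V) * 4 := by
    rw [Subgroup.card_eq_card_quotient_mul_card_subgroup V, hV.card]
  have hc := hf.commutator_central hT
  obtain ⟨c₀, hc₀, hc₀1⟩ := (Subgroup.bot_or_exists_ne_one V).resolve_left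
    (fun h => by have := hV.card; rw [h, Subgroup.card_bot] at this; omega)
  by_cases hsub : Subsingleton (T ⧸ V)
  · right; left
    have hall : ∀ x : T, x ∈ V := fun x => (QuotientGroup.eq_one_iff x).1 (Subsingleton.elim _ _)
    refine ⟨1, c₀, le_rfl, ?_, ?_, hf.commute_apply c₀, fun x => ?_⟩
    · rw [hcardT, Nat.card_of_subsingleton ((1 : T) : T ⧸ V), one_mul, pow_one]
    · rw [pow_one, pow_two]; exact hV.elem c₀ hc₀
    · rcases hV.cases hf hc₀ hc₀1 (hall x) with rfl | rfl | rfl | rfl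
      · exact ⟨0, 0, by simp⟩
      · exact ⟨1, 0, by simp⟩
      · exact ⟨0, 1, by simp⟩
      · exact ⟨1, 1, by simp [hV.theta_two hf hc₀]⟩
  haveI : Nontrivial (T ⧸ V) := not_subsingleton_iff_nontrivial.1 hsub
  have htV : ∀ v ∈ V, t v = v := fun v hv => (hCt v).2 hv
  have hmap : V.map ↑(ρ : T ≃* T) = V :=
    Subgroup.eq_of_le_of_card_ge (by rintro _ ⟨w, hw, rfl⟩; exact hV.inv w hw)
      (Subgroup.card_map_of_injective ρ.injective).ge
  have hmapt : V.map ↑(t : T ≃* T) = V :=
    Subgroup.eq_of_le_of_card_ge (by rintro _ ⟨w, hw, rfl⟩; show t w ∈ V; rw [htV w hw]; exact hw)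
      (Subgroup.card_map_of_injective t.injective).ge
  set ρ' := QuotientGroup.congr V V ρ hmap with hρ'
  set t' := QuotientGroup.congr V V t hmapt with ht'
  have hf' : IsFpfThree ρ' := IsFour.fix_trivial hf V hV.inv hmap
  have mk' : ∀ g : T, ρ' (g : T ⧸ V) = ((ρ g : T) : T ⧸ V) := fun g => QuotientGroup.congr_mk _ _ _ _ g
  have mkt : ∀ g : T, t' (g : T ⧸ V) = ((t g : T) : T ⧸ V) := fun g => QuotientGroup.congr_mk _ _ _ _ g
  -- `A`: the elements moved inside `V`
  let A : Subgroup T :=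
    { carrier := {x | x⁻¹ * t x ∈ V}
      one_mem' := by simp
      mul_mem' := fun {a b} ha hb => by
        show (a * b)⁻¹ * t (a * b) ∈ V
        rw [map_mul, show (a * b)⁻¹ * (t a * t b) = b⁻¹ * (a⁻¹ * t a) * t b by group,
          ← (hV.comm (show a⁻¹ * t a ∈ V from ha) b⁻¹).eq, mul_assoc]
        exact mul_mem ha hb
      inv_mem' := fun {a} ha => by
        show a⁻¹⁻¹ * t a⁻¹ ∈ V
        rw [inv_inv, map_inv, show a * (t a)⁻¹ = a * (a⁻¹ * t a)⁻¹ * a⁻¹ by group,
          ← (hV.comm (inv_mem (show a⁻¹ * t a ∈ V from ha)) a).eq, mul_inv_cancel_right]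
        exact inv_mem ha }
  let d : ↥A →* ↥V :=
    { toFun := fun a => ⟨(a : T)⁻¹ * t a, a.2⟩
      map_one' := Subtype.ext (by simp)
      map_mul' := fun a b => Subtype.ext (by
        show ((a : T) * b)⁻¹ * t (a * b) = (a : T)⁻¹ * t a * ((b : T)⁻¹ * t b)
        rw [map_mul, show ((a : T) * b)⁻¹ * (t a * t b) = (b : T)⁻¹ * ((a : T)⁻¹ * t a) * t b by group,
          ← (hV.comm (show (a : T)⁻¹ * t a ∈ V from a.2) (b : T)⁻¹).eq, mul_assoc]) }
  have hVA : V ≤ A := fun v hv => by show v⁻¹ * t v ∈ V; rw [htV v hv]; simp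
  have hdker : ∀ a : ↥A, d a = 1 → (a : T) ∈ V := fun a ha =>
    (hCt _).1 (inv_mul_eq_one.1 (congrArg Subtype.val ha)).symm
  have hA16 : Nat.card ↥A ≤ 16 := by
    have h2 := Subgroup.card_mul_index d.ker
    rw [Subgroup.index_ker] at h2
    have h3 : Nat.card ↥d.ker ≤ Nat.card ↥V := Nat.card_le_card_of_injective
      (fun z => (⟨((z : ↥A) : T), hdker _ z.2⟩ : ↥V))
      (fun a b e => Subtype.ext (Subtype.ext (congrArg (fun w : ↥V => (w : T)) e)))
    rw [← h2]
    calc _ ≤ 4 * 4 := Nat.mul_le_mul (h3.trans hV.card.le)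
          ((Subgroup.card_le_card_group _).trans hV.card.le)
      _ = 16 := by norm_num
  have hAρ : ∀ a ∈ A, ρ a ∈ A := fun a ha => by
    show (ρ a)⁻¹ * t (ρ a) ∈ V
    rw [hcomm, ← map_inv, ← map_mul]; exact hV.inv _ ha
  have hAsq : ∀ a ∈ A, a * a ∈ V := by
    intro a ha
    have h1 : d (⟨a, ha⟩ * ⟨a, ha⟩) = 1 := by
      rw [map_mul]; exact Subtype.ext (hV.elem _ (d ⟨a, ha⟩).2)
    exact hdker _ h1
  set AV := A.map (QuotientGroup.mk' V) with hAVdef
  have hAVfix : ∀ v : T ⧸ V, t' v = v ↔ v ∈ AV := by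
    intro v
    obtain ⟨g, rfl⟩ := QuotientGroup.mk'_surjective V v
    constructor
    · intro h
      refine ⟨g, ?_, rfl⟩
      exact QuotientGroup.eq.1 (h.symm.trans (mkt g))
    · rintro ⟨a, ha, e⟩
      rw [← e]
      exact (mkt a).trans (QuotientGroup.eq.2 (show a⁻¹ * t a ∈ V from ha)).symm
  have hAVρ : ∀ v ∈ AV, ρ' v ∈ AV := by
    rintro _ ⟨r, hr, rfl⟩
    exact ⟨ρ r, hAρ r hr, (mk' r).symm⟩
  -- fixed points of `t'` on the centre
  obtain ⟨z, hz, hzA, hz1⟩ : ∃ z ∈ Subgroup.center (T ⧸ V), z ∈ AV ∧ z ≠ 1 := by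
    set Z := Subgroup.center (T ⧸ V)
    haveI : Nontrivial ↥Z := (hT.to_quotient V).center_nontrivial
    have htZ : ∀ y ∈ Z, t' y ∈ Z := fun y hy => Subgroup.mem_center_iff.2 fun g => by
      have := congrArg t' (Subgroup.mem_center_iff.1 hy (t'.symm g))
      simpa using this
    have htt : ∀ v : T ⧸ V, t' (t' v) = v := fun v => by
      obtain ⟨g, rfl⟩ := QuotientGroup.mk'_surjective V v
      show t' (t' (g : T ⧸ V)) = g
      rw [mkt, mkt, ht]
    let tz : MulAut ↥Z :=
      { toFun := fun y => ⟨t' y, htZ y y.2⟩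
        invFun := fun y => ⟨t' y, htZ y y.2⟩
        left_inv := fun y => Subtype.ext (htt y)
        right_inv := fun y => Subtype.ext (htt y)
        map_mul' := fun a b => Subtype.ext (map_mul t' (a : T ⧸ V) b) }
    obtain ⟨y, hy1, hy⟩ := exists_fixed_ne_one ((hT.to_quotient V).to_subgroup Z) (t := tz)
      (fun y => Subtype.ext (htt y))
    exact ⟨y, y.2, (hAVfix _).1 (congrArg Subtype.val hy), fun h => hy1 (Subtype.ext h)⟩
  have hρzA : ρ' z ∈ AV := hAVρ z hzA
  have hρzc : ρ' z ∈ Subgroup.center (T ⧸ V) := Subgroup.mem_center_iff.2 fun g => by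
    have := congrArg ρ' (Subgroup.mem_center_iff.1 hz (ρ'.symm g))
    simpa using this
  have hAV2 : ∀ v ∈ AV, v * v = 1 := by
    rintro _ ⟨r, hr, rfl⟩
    rw [← map_mul]; exact (QuotientGroup.eq_one_iff _).2 (hAsq r hr)
  set Z₀ := (⊥ : Subgroup (T ⧸ V)) ⊔ Subgroup.zpowers z ⊔ Subgroup.zpowers (ρ' z) with hZ₀
  have hZ₀A : Z₀ ≤ AV := sup_le (sup_le bot_le (Subgroup.zpowers_le.2 hzA)) (Subgroup.zpowers_le.2 hρzA)
  have hAVcard : Nat.card ↥AV ≤ 4 := by
    let ψ : ↥A →* T ⧸ V := (QuotientGroup.mk' V).comp A.subtype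
    have hr : ψ.range = AV := by simp [ψ, hAVdef, MonoidHom.range_comp]
    have h2 := Subgroup.card_mul_index ψ.ker
    rw [Subgroup.index_ker, hr] at h2
    have h3 : 4 ≤ Nat.card ↥ψ.ker := by
      rw [← hV.card]
      refine Nat.card_le_card_of_injective
        (fun v => (⟨⟨(v : T), hVA v.2⟩, (QuotientGroup.eq_one_iff _).2 v.2⟩ : ↥ψ.ker)) ?_
      exact fun a b e => Subtype.ext (congrArg (fun w : ↥ψ.ker => ((w : ↥A) : T)) e)
    by_contra h
    push Not at h
    have := Nat.mul_le_mul h3 h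
    omega
  have hAV : AV = Z₀ ∧ Nat.card ↥AV = 4 := by
    have hρz : ρ' z ∉ (⊥ : Subgroup (T ⧸ V)) ⊔ Subgroup.zpowers z := by
      rw [bot_sup_eq]
      intro h
      obtain ⟨i, hi⟩ := Subgroup.mem_zpowers_iff.1 h
      rcases Int.even_or_odd i with ⟨j, rfl⟩ | ⟨j, rfl⟩
      · rw [← two_mul, zpow_mul, zpow_two, hAV2 z hzA, one_zpow] at hi
        exact hz1 (ρ'.injective (by rw [← hi, map_one]))
      · rw [zpow_add, zpow_mul, zpow_two, hAV2 z hzA, one_zpow, one_mul, zpow_one] at hi
        exact hz1 (hf'.fpf z hi.symm)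
    have k1 : 2 * Nat.card ↥(⊥ : Subgroup (T ⧸ V)) ≤
        Nat.card ↥((⊥ : Subgroup (T ⧸ V)) ⊔ Subgroup.zpowers z) :=
      two_mul_card_le le_sup_left (Subgroup.mem_sup_right (Subgroup.mem_zpowers z))
        (fun h => hz1 (Subgroup.mem_bot.1 h))
    have k2 : 2 * Nat.card ↥((⊥ : Subgroup (T ⧸ V)) ⊔ Subgroup.zpowers z) ≤ Nat.card ↥Z₀ :=
      two_mul_card_le le_sup_left (Subgroup.mem_sup_right (Subgroup.mem_zpowers _)) hρz
    have k3 := Nat.le_of_dvd Nat.card_pos (Subgroup.card_dvd_of_le hZ₀A)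
    rw [Subgroup.card_bot] at k1
    exact ⟨(Subgroup.eq_of_le_of_card_ge hZ₀A (by omega)).symm, by omega⟩
  have hW' : IsFour ρ' AV := by
    refine ⟨?_, hAV.2, hAV2, hAVρ⟩
    rw [hAV.1]
    exact sup_le (sup_le bot_le (Subgroup.zpowers_le.2 hz)) (Subgroup.zpowers_le.2 hρzc)
  have hlt : Nat.card (T ⧸ V) < N := by
    rw [← hN, hcardT]
    have := Nat.card_pos (α := T ⧸ V)
    omega
  have htt' : ∀ v, t' (t' v) = v := fun v => by
    obtain ⟨g, rfl⟩ := QuotientGroup.mk'_surjective V v
    show t' (t' (g : T ⧸ V)) = g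
    rw [mkt, mkt, ht]
  have hcomm' : ∀ v, t' (ρ' v) = ρ' (t' v) := fun v => by
    obtain ⟨g, rfl⟩ := QuotientGroup.mk'_surjective V v
    show t' (ρ' (g : T ⧸ V)) = ρ' (t' (g : T ⧸ V))
    rw [mk', mkt, mkt, mk', hcomm]
  have ih' := ih _ hlt (T ⧸ V) rfl (hT.to_quotient V) t' ρ' AV htt' hcomm' hf' hW' hAVfix
  have memA : ∀ {g : T}, (g : T ⧸ V) ∈ AV → g ∈ A := fun {g} hg => by
    obtain ⟨a, ha, hga⟩ := hg
    have : a⁻¹ * g ∈ V := QuotientGroup.eq.1 hga
    have := mul_mem ha (hVA this)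
    simpa using this
  rcases ih' with ⟨h16, hexp⟩ | hH | ⟨hS, x₁, x₂, hx⟩
  · -- elementary abelian quotient of order sixteen
    right; right
    have h64 : Nat.card T = 64 := by rw [hcardT, h16]
    have hsq : ∀ x : T, x * x ∈ V := fun x =>
      (QuotientGroup.eq_one_iff (N := V) (x * x)).1 (by rw [QuotientGroup.mk_mul]; exact hexp _)
    refine ⟨⟨hf, hV, h64, hsq⟩, ?_⟩
    by_contra hab
    push Not at hab
    -- the map `x ↦ x⁻¹ t x`
    let D : T →* T :=
      { toFun := fun x => x⁻¹ * t x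
        map_one' := by simp
        map_mul' := fun a b => by
          rw [map_mul, show (a * b)⁻¹ * (t a * t b) = b⁻¹ * (a⁻¹ * t a) * t b by group,
            hab b⁻¹ (a⁻¹ * t a), mul_assoc] }
    have hker : Nat.card ↥D.ker ≤ 4 := by
      rw [← hV.card]
      exact Nat.card_le_card_of_injective
        (fun z => (⟨(z : T), (hCt _).1 (inv_mul_eq_one.1 z.2).symm⟩ : ↥V))
        (fun a b e => Subtype.ext (congrArg (fun w : ↥V => (w : T)) e))
    have hrange : D.range ≤ A := by
      rintro _ ⟨x, rfl⟩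
      show (x⁻¹ * t x)⁻¹ * t (x⁻¹ * t x) ∈ V
      rw [map_mul, map_inv, ht, hab (t x)⁻¹ x, mul_inv_rev, inv_inv,
        show (t x)⁻¹ * x * (x * (t x)⁻¹) = (t x)⁻¹ * (x * x) * (t x)⁻¹ by group,
        ← (hV.comm (hsq x) (t x)⁻¹).eq, mul_assoc, ← mul_inv_rev]
      exact mul_mem (hsq x) (inv_mem (hsq _))
    have hrA : D.range = A := by
      refine Subgroup.eq_of_le_of_card_ge hrange ?_
      have h2 := Subgroup.card_mul_index D.ker
      rw [Subgroup.index_ker, h64] at h2
      by_contra h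
      push Not at h
      have : Nat.card ↥D.ker * Nat.card ↥D.range < 4 * 16 :=
        Nat.lt_of_le_of_lt (Nat.mul_le_mul_right _ hker) (Nat.mul_lt_mul_of_pos_left (by omega) (by norm_num))
      omega
    have hel : ∀ a ∈ A, a * a = 1 := by
      intro a ha
      rw [← hrA] at ha
      obtain ⟨x, rfl⟩ := ha
      show D x * D x = 1
      rw [← map_mul]
      show (x * x)⁻¹ * t (x * x) = 1
      rw [htV _ (hsq x), inv_mul_cancel]
    have hAle : A ≤ V := by
      intro a ha
      obtain ⟨x, hx⟩ : a ∈ D.range := hrA.ge ha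
      refine (hCt a).1 ?_
      have e : t a = a⁻¹ := by
        rw [← hx]
        show t (x⁻¹ * t x) = (x⁻¹ * t x)⁻¹
        rw [map_mul, map_inv, ht, mul_inv_rev, inv_inv]
      rw [e]
      exact inv_eq_of_mul_eq_one_right (hel a ha)
    have hle := Nat.le_of_dvd Nat.card_pos (Subgroup.card_dvd_of_le (Subgroup.map_mono hAle :
      AV ≤ V.map (QuotientGroup.mk' V)))
    rw [QuotientGroup.map_mk'_self, Subgroup.card_bot, hAV.2] at hle
    omega
  · -- homocyclic quotient
    obtain ⟨n, b, hn, hcard, hb, -, hgen⟩ := hH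
    obtain ⟨a, rfl⟩ := QuotientGroup.mk'_surjective V b
    have haV : a ^ 2 ^ n ∈ V := (QuotientGroup.eq_one_iff _).1 (by rw [QuotientGroup.mk_pow]; exact hb)
    have hdec : ∀ x : T, ∃ i j : ℕ, ∃ v ∈ V, x = a ^ i * ρ a ^ j * v := by
      intro x
      obtain ⟨i, j, hij⟩ := hgen (x : T ⧸ V)
      refine ⟨i, j, (a ^ i * ρ a ^ j)⁻¹ * x, QuotientGroup.eq.1 ?_, by group⟩
      rw [hij]
      show ((a ^ i * ρ a ^ j : T) : T ⧸ V) = _
      rw [QuotientGroup.mk_mul, QuotientGroup.mk_pow, QuotientGroup.mk_pow, ← mk']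
      rfl
    have hcρ := hf.commute_apply a
    by_cases hne : a ^ 2 ^ n = 1
    swap
    · right; left
      refine ⟨n + 1, a, by omega, by rw [hcardT, hcard, pow_succ], ?_, hcρ, fun x => ?_⟩
      · rw [pow_succ, pow_mul, pow_two]; exact hV.elem _ haV
      · obtain ⟨i, j, v, hv, rfl⟩ := hdec x
        obtain ⟨i', j', rfl⟩ : ∃ i' j' : ℕ, v = a ^ i' * ρ a ^ j' := by
          rcases hV.cases hf haV hne hv with e | e | e | e
          · exact ⟨0, 0, by simpa using e⟩
          · exact ⟨2 ^ n, 0, by simpa using e⟩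
          · exact ⟨0, 2 ^ n, by simpa using e⟩
          · exact ⟨2 ^ n, 2 ^ n, by rw [e, hV.theta_two hf haV, map_pow]⟩
        refine ⟨i + i', j + j', ?_⟩
        rw [pow_add, pow_add, mul_assoc, ← mul_assoc (ρ a ^ j), (hcρ.symm.pow_pow j i').eq,
          mul_assoc, ← mul_assoc, mul_assoc]
    rcases eq_or_lt_of_le hn with hn1 | hn2
    · -- elementary abelian of order sixteen
      left
      subst hn1
      rw [pow_one] at hne
      refine ⟨by rw [hcardT, hcard]; norm_num, fun x => ?_⟩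
      obtain ⟨i, j, v, hv, rfl⟩ := hdec x
      have hρa : ρ a ^ 2 = 1 := by rw [← map_pow, hne, map_one]
      have cv : Commute v (a ^ i * ρ a ^ j) := hV.comm hv _
      have cij : Commute (ρ a ^ j) (a ^ i) := hcρ.symm.pow_pow j i
      rw [cv.mul_mul_mul_comm, cij.mul_mul_mul_comm, hV.elem v hv, mul_one, ← pow_add, ← pow_add,
        ← two_mul, ← two_mul, pow_mul, pow_mul, hne, hρa, one_pow, one_pow, one_mul]
    · exfalso
      obtain ⟨m, rfl⟩ : ∃ m, n = m + 2 := ⟨n - 2, by omega⟩
      set π := QuotientGroup.mk' V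
      set h := a ^ 2 ^ m with hh
      have hh4 : h ^ 4 = 1 := by
        rw [hh, ← pow_mul, show 2 ^ m * 4 = 2 ^ (m + 2) by ring]; exact hne
      -- uniqueness of coordinates
      have hρb : ρ' (π a) ^ 2 ^ (m + 2) = 1 := by rw [← map_pow, hb, map_one]
      have coord : Function.Bijective (fun q : Fin (2 ^ (m + 2)) × Fin (2 ^ (m + 2)) =>
          π a ^ (q.1 : ℕ) * ρ' (π a) ^ (q.2 : ℕ)) := by
        refine Function.Surjective.bijective_of_nat_card_le ?_ ?_
        · intro x
          obtain ⟨i, j, rfl⟩ := hgen x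
          refine ⟨(⟨i % 2 ^ (m + 2), Nat.mod_lt _ (by positivity)⟩,
            ⟨j % 2 ^ (m + 2), Nat.mod_lt _ (by positivity)⟩), ?_⟩
          simp only
          rw [← pow_eq_pow_mod i hb, ← pow_eq_pow_mod j hρb]
        · rw [hcard, Nat.card_prod, Nat.card_fin, ← mul_pow]; norm_num
      have hcπ : Commute (π a) (ρ' (π a)) := hf'.commute_apply _
      -- the involutions of the quotient are powers of `h²`
      have invol : ∀ v : T ⧸ V, v * v = 1 → ∃ i j : ℕ, v = π (h ^ (2 * i) * ρ h ^ (2 * j)) := by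
        intro v hv
        obtain ⟨⟨⟨i, hi⟩, ⟨j, hj⟩⟩, rfl⟩ := coord.2 v
        simp only at hv ⊢
        rw [(hcπ.pow_pow i j).symm.mul_mul_mul_comm, ← pow_add, ← pow_add,
          pow_eq_pow_mod (i + i) hb, pow_eq_pow_mod (j + j) hρb] at hv
        have h1 := coord.1 (a₁ := (⟨(i + i) % 2 ^ (m + 2), Nat.mod_lt _ (by positivity)⟩,
          ⟨(j + j) % 2 ^ (m + 2), Nat.mod_lt _ (by positivity)⟩))
          (a₂ := (⟨0, by positivity⟩, ⟨0, by positivity⟩)) (by simpa using hv)
        obtain ⟨e1, e2⟩ := Prod.mk.inj h1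
        have d1 : 2 ^ (m + 2) ∣ i + i := Nat.dvd_of_mod_eq_zero (congrArg Fin.val e1)
        have d2 : 2 ^ (m + 2) ∣ j + j := Nat.dvd_of_mod_eq_zero (congrArg Fin.val e2)
        rw [← two_mul, pow_succ'] at d1 d2
        obtain ⟨k, rfl⟩ := (Nat.mul_dvd_mul_iff_left two_pos).1 d1
        obtain ⟨l, rfl⟩ := (Nat.mul_dvd_mul_iff_left two_pos).1 d2
        refine ⟨k, l, ?_⟩
        rw [map_mul, map_pow, map_pow, hh, map_pow ρ, map_pow π, map_pow π, ← pow_mul, ← pow_mul,
          show π (ρ a) = ρ' (π a) from (mk' a).symm,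
          show 2 ^ (m + 1) * k = 2 ^ m * (2 * k) by ring,
          show 2 ^ (m + 1) * l = 2 ^ m * (2 * l) by ring]
      have hπh4 : π h ^ 4 = 1 := by rw [← map_pow, hh4, map_one]
      -- `h²` lies in `A`
      have hh2A : h ^ 2 ∈ A := by
        apply memA
        by_contra hnot
        -- `AV` consists of involutions, so it would be contained in a group of order at most four
        have hcomm2 : ∀ e ∈ ((⊥ : Subgroup (T ⧸ V)) ⊔ Subgroup.zpowers (π (h ^ 2))),
            π (ρ h ^ 2) * e = e * π (ρ h ^ 2) := by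
          intro e he
          rw [bot_sup_eq] at he
          obtain ⟨i, rfl⟩ := Subgroup.mem_zpowers_iff.1 he
          exact (((hf.commute_apply h).symm.pow_pow 2 2).map π).zpow_right i |>.eq
        have hπ2 : π (h ^ 2) * π (h ^ 2) = 1 := by
          rw [← map_mul, ← pow_add, hh4, map_one]
        have hπρ2 : π (ρ h ^ 2) * π (ρ h ^ 2) = 1 := by
          rw [← map_mul, ← pow_add, ← map_pow, hh4, map_one, map_one]
        set S := (⊥ : Subgroup (T ⧸ V)) ⊔ Subgroup.zpowers (π (h ^ 2)) ⊔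
          Subgroup.zpowers (π (ρ h ^ 2)) with hS'
        have hle : AV ≤ S := by
          intro v hv
          obtain ⟨i, j, rfl⟩ := invol v (hAV2 v hv)
          rw [map_mul, pow_mul, pow_mul, map_pow, map_pow π (ρ h ^ 2)]
          exact mul_mem (Subgroup.mem_sup_left (Subgroup.mem_sup_right
            (pow_mem (Subgroup.mem_zpowers _) _))) (Subgroup.mem_sup_right (pow_mem (Subgroup.mem_zpowers _) _))
        have hS4 : Nat.card ↥S ≤ 4 := by
          refine (card_sup_zpowers_le _ hcomm2 hπρ2).trans ?_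
          have := card_sup_zpowers_le (⊥ : Subgroup (T ⧸ V))
            (fun e he => by rw [Subgroup.mem_bot.1 he, mul_one, one_mul]) hπ2
          rw [Subgroup.card_bot] at this
          omega
        have heq : AV = S := Subgroup.eq_of_le_of_card_ge hle (hS4.trans hAV.2.ge)
        exact hnot (heq ▸ Subgroup.mem_sup_left (Subgroup.mem_sup_right (Subgroup.mem_zpowers _)))
      -- hence `h²` is fixed by `t`
      have hd : h⁻¹ * t h ∈ A := by
        apply memA
        set c := h⁻¹ * t h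
        have hcom : ∀ u w : T ⧸ V, u * w = w * u := fun u w => by
          obtain ⟨⟨i, j⟩, rfl⟩ := coord.2 u
          obtain ⟨⟨k, l⟩, rfl⟩ := coord.2 w
          exact ((((Commute.refl (π a)).pow_pow i k).mul_right (hcπ.pow_pow i l)).mul_left
            ((hcπ.symm.pow_pow j k).mul_right ((Commute.refl (ρ' (π a))).pow_pow j l))).eq
        have h1 : π c * π c = 1 := by
          show π (h⁻¹ * t h) * π (h⁻¹ * t h) = 1
          rw [map_mul, map_inv, (show Commute (π (t h)) (π h)⁻¹ from hcom _ _).mul_mul_mul_comm,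
            ← mul_inv_rev, ← map_mul, ← map_mul, ← map_mul, ← map_inv, ← map_mul,
            ← pow_two]
          exact (QuotientGroup.eq_one_iff _).2 (show (h ^ 2)⁻¹ * t (h ^ 2) ∈ V from hh2A)
        obtain ⟨i, j, hij⟩ := invol _ h1
        rw [show (c : T ⧸ V) = π c from rfl, hij, map_mul, pow_mul, pow_mul, map_pow, map_pow π (ρ h ^ 2)]
        refine mul_mem (pow_mem (show π (h ^ 2) ∈ AV from ⟨_, hh2A, rfl⟩) _) (pow_mem ?_ _)
        rw [← map_pow ρ]
        exact ⟨_, hAρ _ hh2A, rfl⟩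
      obtain ⟨i, j, hij⟩ := invol _ (hAV2 _ ⟨_, hd, rfl⟩)
      have hw : (h ^ (2 * i) * ρ h ^ (2 * j))⁻¹ * (h⁻¹ * t h) ∈ V := QuotientGroup.eq.1 hij.symm
      set w := (h ^ (2 * i) * ρ h ^ (2 * j))⁻¹ * (h⁻¹ * t h)
      have hch := hf.commute_apply h
      have hc2 : (h⁻¹ * t h) * (h⁻¹ * t h) = 1 := by
        have e : h⁻¹ * t h = h ^ (2 * i) * ρ h ^ (2 * j) * w := by
          simp only [w, mul_inv_cancel_left]
        have hρh4 : ρ h ^ 4 = 1 := by rw [← map_pow, hh4, map_one]
        have cv : Commute w (h ^ (2 * i) * ρ h ^ (2 * j)) := hV.comm hw _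
        rw [e, cv.mul_mul_mul_comm, (hch.symm.pow_pow _ _).mul_mul_mul_comm, hV.elem w hw, mul_one,
          ← pow_add, ← pow_add, show 2 * i + 2 * i = 4 * i by ring,
          show 2 * j + 2 * j = 4 * j by ring, pow_mul, pow_mul, hh4, hρh4, one_pow, one_pow, one_mul]
      have cc : Commute (t h) h⁻¹ := by
        have e : t h = h * (h ^ (2 * i) * ρ h ^ (2 * j) * w) := by
          simp only [w, mul_inv_cancel_left]
        rw [e]
        refine Commute.inv_right ((Commute.refl h).mul_left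
          (((Commute.pow_left (Commute.refl h) _).mul_left (hch.symm.pow_left _)).mul_left (hV.comm hw h)))
      rw [cc.mul_mul_mul_comm, ← map_mul, ← mul_inv_rev, ← pow_two, inv_mul_eq_one] at hc2
      have hh2V : h ^ 2 ∈ V := (hCt _).1 hc2.symm
      have hπ2 : π a ^ (2 ^ (m + 1)) = 1 := by
        rw [← map_pow, pow_succ, pow_mul, ← hh]; exact (QuotientGroup.eq_one_iff _).2 hh2V
      have := coord.1 (a₁ := (⟨2 ^ (m + 1), Nat.pow_lt_pow_right (by norm_num) (by omega)⟩, ⟨0, by positivity⟩))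
        (a₂ := (⟨0, by positivity⟩, ⟨0, by positivity⟩)) (by simpa using hπ2)
      have := congrArg (fun q : Fin (2 ^ (m + 2)) × Fin (2 ^ (m + 2)) => (q.1 : ℕ)) this
      simp at this
  · -- a nonabelian quotient is impossible
    exfalso
    have hne : ⁅x₁, x₂⁆ ≠ 1 := fun e => hx (commutatorElement_eq_one_iff_mul_comm.1 e)
    obtain ⟨g, rfl⟩ := QuotientGroup.mk'_surjective V x₁
    obtain ⟨k, rfl⟩ := QuotientGroup.mk'_surjective V x₂
    have hgA : ∀ g' : T, g' * g' ∈ A := fun g' => memA (by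
      rw [QuotientGroup.mk_mul]; exact hS.sq _)
    have hcA : ∀ g' k' : T, ⁅g', k'⁆ ∈ A := fun g' k' => memA (by
      have := hS.comm_mem ((QuotientGroup.mk' V) g') ((QuotientGroup.mk' V) k')
      rwa [← map_commutatorElement] at this)
    rw [← map_commutatorElement] at hne
    have hcR : ((⁅g, k⁆ : T) : T ⧸ V) ∈ AV := ⟨_, hcA g k, rfl⟩
    -- `A` is central and elementary
    have hAc : ∀ a ∈ A, a ∈ Subgroup.center T := by
      intro r hr
      have hρc : ρ ⁅g, k⁆ ∈ Subgroup.center T := by rw [map_commutatorElement]; exact hc _ _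
      have lift : ∀ v ∈ AV, ∃ z ∈ Subgroup.center T, (z : T ⧸ V) = v := by
        intro v hv
        rcases hW'.cases hf' hcR hne hv with rfl | rfl | rfl | rfl
        · exact ⟨1, one_mem _, rfl⟩
        · exact ⟨⁅g, k⁆, hc _ _, rfl⟩
        · exact ⟨ρ ⁅g, k⁆, hρc, (mk' _).symm⟩
        · refine ⟨⁅g, k⁆ * ρ ⁅g, k⁆, mul_mem (hc _ _) hρc, ?_⟩
          rw [hW'.theta_two hf' hcR, mk', QuotientGroup.mk_mul]
      obtain ⟨z, hz, hzr⟩ := lift _ ⟨r, hr, rfl⟩
      have : z⁻¹ * r ∈ V := QuotientGroup.eq.1 hzr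
      have := mul_mem hz (hV.le_center this)
      simpa using this
    have hc2 : ∀ a b : T, ⁅a, b⁆ * ⁅a, b⁆ = 1 := fun a b => by
      rw [← comm_mul_left hc]
      exact commutatorElement_eq_one_iff_mul_comm.2
        (Subgroup.mem_center_iff.1 (hAc _ (hgA a)) b).symm
    -- choose `x` moved modulo `A`, and `w = x⁻¹ t x`
    set Ā := AV
    obtain ⟨x, hx'⟩ : ∃ x : T, x⁻¹ * t x ∉ A := by
      by_contra hall
      push Not at hall
      have hle : ∀ v : T ⧸ V, v⁻¹ * t' v ∈ AV := fun v => by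
        obtain ⟨g', rfl⟩ := QuotientGroup.mk'_surjective V v
        exact ⟨_, hall g', by rw [map_mul, map_inv]; exact congrArg (_ * ·) (mkt g').symm⟩
      -- fibres of `v ↦ v⁻¹ t v` are cosets of `AV`
      have hinj : ∀ u v : T ⧸ V, u⁻¹ * t' u = v⁻¹ * t' v → u⁻¹ * v ∈ AV := by
        intro u v e
        refine (hAVfix _).1 ?_
        have hcu : Commute (u⁻¹ * t' u) (u⁻¹ * v) :=
          (Subgroup.mem_center_iff.1 (hW'.le_center (hle u)) _).symm
        have e4 : t' v = v * (u⁻¹ * t' u) := by rw [e]; group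
        rw [map_mul, map_inv, e4]
        calc (t' u)⁻¹ * (v * (u⁻¹ * t' u))
            = (u⁻¹ * t' u)⁻¹ * ((u⁻¹ * v) * (u⁻¹ * t' u)) := by group
          _ = u⁻¹ * v := by rw [← hcu.eq]; group
      choose s hs using fun w : {w : ↥AV // ∃ u : T ⧸ V, u⁻¹ * t' u = w} => w.2
      let F : T ⧸ V → {w : ↥AV // ∃ u : T ⧸ V, u⁻¹ * t' u = w} := fun u => ⟨⟨_, hle u⟩, u, rfl⟩
      have key : Function.Injective (fun u : T ⧸ V =>
          ((F u).1, (⟨(s (F u))⁻¹ * u, hinj _ _ (hs (F u))⟩ : ↥AV))) := by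
        intro u v e
        have e1 : F u = F v := Subtype.ext (Prod.mk.inj e).1
        have e2 := congrArg Subtype.val (Prod.mk.inj e).2
        simp only [e1] at e2
        exact mul_left_cancel e2
      have := Nat.card_le_card_of_injective _ key
      rw [Nat.card_prod, hAV.2, hS.card] at this
      omega
    set w := x⁻¹ * t x with hw
    -- commutators are fixed by `t`
    have htw : t w = w⁻¹ := by rw [hw, map_mul, map_inv, ht, mul_inv_rev, inv_inv]
    have hcinv : ∀ a b : T, ⁅a, b⁻¹⁆ = ⁅a, b⁆ := fun a b => by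
      have e : ⁅a, b⁻¹⁆ * ⁅a, b⁆ = 1 := by
        rw [← comm_mul_right hc, inv_mul_cancel, commutatorElement_one_right]
      rw [eq_inv_of_mul_eq_one_left e]
      exact inv_eq_of_mul_eq_one_right (hc2 a b)
    have hcV : ⁅x, w⁆ ∈ V := by
      refine (hCt _).1 ?_
      rw [map_commutatorElement, htw, hcinv, show t x = x * w by rw [hw]; group,
        comm_mul_left hc, commutatorElement_eq_one_iff_mul_comm.2 (rfl : w * w = w * w), mul_one]
    -- so the quotient is abelian
    have hπ : ⁅(x : T ⧸ V), (w : T ⧸ V)⁆ = 1 := by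
      rw [← QuotientGroup.mk'_apply, ← QuotientGroup.mk'_apply, ← map_commutatorElement]
      exact (QuotientGroup.eq_one_iff _).2 hcV
    obtain ⟨e1, e2, e3⟩ := hS.tables (x : T ⧸ V) (w : T ⧸ V)
    rw [hπ, map_one, map_one] at e1 e2
    rw [hπ, map_one] at e3
    -- the generated subgroup is everything, and abelian
    have hxA : (x : T ⧸ V) ∉ AV := fun h => hx' (hVA (memA h : x⁻¹ * t x ∈ V))
    have hwA : (w : T ⧸ V) ∉ AV := fun h => hx' (memA h)
    set X₁ := AV ⊔ Subgroup.zpowers (x : T ⧸ V)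
    set X := X₁ ⊔ Subgroup.zpowers (ρ' (x : T ⧸ V))
    set Y₁ := X ⊔ Subgroup.zpowers (w : T ⧸ V)
    set Y := Y₁ ⊔ Subgroup.zpowers (ρ' (w : T ⧸ V))
    have cm : ∀ {p q : T ⧸ V}, ⁅p, q⁆ = 1 → Commute p q := fun h =>
      commutatorElement_eq_one_iff_mul_comm.1 h
    have zle : ∀ {p q : T ⧸ V}, Commute p q → Subgroup.zpowers p ≤ Subgroup.centralizer {q} :=
      fun h => Subgroup.zpowers_le.2 (Subgroup.mem_centralizer_singleton_iff.2 h.eq)
    have AVle : ∀ q : T ⧸ V, AV ≤ Subgroup.centralizer {q} := fun q a ha =>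
      Subgroup.mem_centralizer_singleton_iff.2 (Subgroup.mem_center_iff.1 (hW'.le_center ha) q).symm
    have cxρ := hf'.commute_apply (x : T ⧸ V)
    have cwρ := hf'.commute_apply (w : T ⧸ V)
    have hYab : ∀ p ∈ Y, ∀ q ∈ Y, Commute p q := by
      have h1 : ∀ q ∈ ({(x : T ⧸ V), ρ' (x : T ⧸ V), (w : T ⧸ V), ρ' (w : T ⧸ V)} : Set (T ⧸ V)),
          Y ≤ Subgroup.centralizer {q} := by
        rintro q (rfl | rfl | rfl | rfl)
        · exact sup_le (sup_le (sup_le (sup_le (AVle _) (zle (Commute.refl _))) (zle cxρ.symm))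
            (zle (cm hπ).symm)) (zle (cm e1).symm)
        · exact sup_le (sup_le (sup_le (sup_le (AVle _) (zle cxρ)) (zle (Commute.refl _)))
            (zle (cm e2).symm)) (zle (cm e3).symm)
        · exact sup_le (sup_le (sup_le (sup_le (AVle _) (zle (cm hπ))) (zle (cm e2)))
            (zle (Commute.refl _))) (zle cwρ.symm)
        · exact sup_le (sup_le (sup_le (sup_le (AVle _) (zle (cm e1))) (zle (cm e3)))
            (zle cwρ)) (zle (Commute.refl _))
      intro p hp q hq
      have hq' : Y ≤ Subgroup.centralizer {p} := by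
        have hsw : ∀ r ∈ ({(x : T ⧸ V), ρ' (x : T ⧸ V), (w : T ⧸ V), ρ' (w : T ⧸ V)} : Set (T ⧸ V)),
            Subgroup.zpowers r ≤ Subgroup.centralizer {p} := fun r hr =>
          zle (Subgroup.mem_centralizer_singleton_iff.1 (h1 r hr hp)).symm
        exact sup_le (sup_le (sup_le (sup_le (AVle p) (hsw _ (by simp))) (hsw _ (by simp)))
          (hsw _ (by simp))) (hsw _ (by simp))
      exact (Subgroup.mem_centralizer_singleton_iff.1 (hq' hq)).symm
    have hYtop : Y = ⊤ := by
      -- `ρ'` fixes nothing outside `AV` modulo an invariant subgroup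
      have fixA : ∀ p : T ⧸ V, p⁻¹ * ρ' p ∈ AV → p ∈ AV := by
        intro p hp
        have h1 := hf'.prod_eq_one p
        set e := p⁻¹ * ρ' p
        have hρp : ρ' p = p * e := by simp [e]
        rw [hρp, map_mul, hρp] at h1
        have ce : ∀ r, r ∈ AV → ∀ s, Commute r s := fun r hr s =>
          (Subgroup.mem_center_iff.1 (hW'.le_center hr) s).symm
        have h2 : p * p * p * (e * e * ρ' e) = 1 := by
          rw [← h1]
          simp only [mul_assoc, (ce e hp p).left_comm, (ce e hp p).eq]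
        have h3 : p = (p * p)⁻¹ * (e * e * ρ' e)⁻¹ := by
          calc p = (p * p)⁻¹ * (p * p * p) := by group
            _ = _ := by rw [eq_inv_of_mul_eq_one_left h2]
        rw [h3]
        exact mul_mem (inv_mem (hS.sq p)) (inv_mem (mul_mem (mul_mem hp hp) (hAVρ e hp)))
      have hθx : ρ' (x : T ⧸ V) ∉ X₁ := by
        intro h
        apply hxA
        rw [← SetLike.mem_coe, Subgroup.coe_mul_of_left_le_normalizer_right _ _ (fun r hr =>
          Subgroup.centralizer_le_normalizer _ (Subgroup.mem_centralizer_iff.2 fun s _ =>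
            Subgroup.mem_center_iff.1 (hW'.le_center hr) s))] at h
        obtain ⟨r, hr, v, hv, hrv⟩ := h

        replace hrv : r * v = _ := hrv
        obtain ⟨i, rfl⟩ := Subgroup.mem_zpowers_iff.1 hv
        have h2 : (x : T ⧸ V) ^ (2 : ℤ) ∈ AV := by rw [zpow_two]; exact hS.sq _
        rcases Int.even_or_odd i with ⟨j, rfl⟩ | ⟨j, rfl⟩
        · have : ρ' (x : T ⧸ V) ∈ AV := by
            rw [← hrv, ← two_mul, zpow_mul]; exact mul_mem hr (zpow_mem h2 j)
          have := hAVρ _ (hAVρ _ this)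
          rwa [hf'.cube] at this
        · refine fixA _ ?_
          have hr' : r * (x : T ⧸ V) = (x : T ⧸ V) * r :=
            (Subgroup.mem_center_iff.1 (hW'.le_center hr) _).symm
          rw [← hrv, add_comm, zpow_add, zpow_one, zpow_mul, ← mul_assoc r, hr', mul_assoc,
            inv_mul_cancel_left]
          exact mul_mem hr (zpow_mem h2 j)
      -- `t'` is trivial on `X` modulo `AV` only through `w`
      have hwX : (w : T ⧸ V) ∉ X := by
        intro h
        set K : Subgroup (T ⧸ V) :=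
          { carrier := {p | p⁻¹ * t' p ∈ AV}
            one_mem' := by simp
            mul_mem' := fun {p q} hp hq => by
              show (p * q)⁻¹ * t' (p * q) ∈ AV
              have hcp := Subgroup.mem_center_iff.1 (hW'.le_center (show p⁻¹ * t' p ∈ AV from hp)) q⁻¹
              rw [map_mul, show (p * q)⁻¹ * (t' p * t' q) = q⁻¹ * (p⁻¹ * t' p) * t' q by group,
                hcp, mul_assoc]
              exact mul_mem hp hq
            inv_mem' := fun {p} hp => by
              show p⁻¹⁻¹ * t' p⁻¹ ∈ AV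
              have hcp := Subgroup.mem_center_iff.1
                (hW'.le_center (inv_mem (show p⁻¹ * t' p ∈ AV from hp))) p
              rw [inv_inv, map_inv, show p * (t' p)⁻¹ = p * (p⁻¹ * t' p)⁻¹ * p⁻¹ by group, hcp,
                mul_inv_cancel_right]
              exact inv_mem hp } with hKdef
        have hAK : AV ≤ K := fun p hp => by
          show p⁻¹ * t' p ∈ AV
          rw [(hAVfix p).2 hp, inv_mul_cancel]; exact one_mem _
        have hwK : (w : T ⧸ V) ∈ K := by
          show (w : T ⧸ V)⁻¹ * t' (w : T ⧸ V) ∈ AV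
          rw [mkt, htw, QuotientGroup.mk_inv, ← mul_inv_rev]
          exact inv_mem (hS.sq _)
        have hKρ : ∀ p ∈ K, ρ' p ∈ K := fun p hp => by
          show (ρ' p)⁻¹ * t' (ρ' p) ∈ AV
          rw [hcomm', ← map_inv, ← map_mul]; exact hAVρ _ hp
        have hxK : (x : T ⧸ V) ∉ K := fun hxK => hwA (by
          have h := (show (x : T ⧸ V)⁻¹ * t' (x : T ⧸ V) ∈ AV from hxK)
          rw [mkt] at h
          rw [hw, QuotientGroup.mk_mul, QuotientGroup.mk_inv]
          exact h)
        -- `X / AV` meets `K` trivially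
        have hKX : Nat.card ↥X ≤ 16 := by
          have k1 : Nat.card ↥X₁ ≤ 8 := by
            have hsurj : Function.Surjective (fun q : ↥AV × Fin 2 =>
                (⟨q.1 * (x : T ⧸ V) ^ (q.2 : ℕ), mul_mem (Subgroup.mem_sup_left q.1.2)
                  (pow_mem (Subgroup.mem_sup_right (Subgroup.mem_zpowers _)) _)⟩ : ↥X₁)) := by
              rintro ⟨v, hv⟩
              rw [← SetLike.mem_coe, Subgroup.coe_mul_of_left_le_normalizer_right _ _ (fun r hr =>
                Subgroup.centralizer_le_normalizer _ (Subgroup.mem_centralizer_iff.2 fun s _ =>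
                  Subgroup.mem_center_iff.1 (hW'.le_center hr) s))] at hv
              obtain ⟨r, hr, b, hb, hrb⟩ := hv
              obtain ⟨i, rfl⟩ := Subgroup.mem_zpowers_iff.1 hb
              have h2 : (x : T ⧸ V) ^ (2 : ℤ) ∈ AV := by rw [zpow_two]; exact hS.sq _
              rcases Int.even_or_odd i with ⟨j, rfl⟩ | ⟨j, rfl⟩
              · refine ⟨(⟨r * (x : T ⧸ V) ^ (j + j), mul_mem hr ?_⟩, 0), Subtype.ext (by simpa using hrb)⟩
                rw [← two_mul, zpow_mul]; exact zpow_mem h2 j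
              · refine ⟨(⟨r * (x : T ⧸ V) ^ (2 * j), mul_mem hr (by rw [zpow_mul]; exact zpow_mem h2 j)⟩, 1),
                  Subtype.ext ?_⟩
                simp only [Fin.val_one, pow_one]
                rw [← hrb]; simp [zpow_add, mul_assoc]
            refine (Nat.card_le_card_of_surjective _ hsurj).trans ?_
            rw [Nat.card_prod, Nat.card_fin, hAV.2]
          have hmem : ρ' (x : T ⧸ V) * ρ' (x : T ⧸ V) ∈ X₁ := Subgroup.mem_sup_left (hS.sq _)
          have hsurj : Function.Surjective (fun q : ↥X₁ × Fin 2 =>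
              (⟨q.1 * ρ' (x : T ⧸ V) ^ (q.2 : ℕ), mul_mem (Subgroup.mem_sup_left q.1.2)
                (pow_mem (Subgroup.mem_sup_right (Subgroup.mem_zpowers _)) _)⟩ : ↥X)) := by
            rintro ⟨v, hv⟩
            have hn : Subgroup.zpowers (ρ' (x : T ⧸ V)) ≤ Subgroup.normalizer (X₁ : Set (T ⧸ V)) := by
              rw [Subgroup.zpowers_le]
              refine Subgroup.centralizer_le_normalizer _ (Subgroup.mem_centralizer_iff.2 fun u hu => ?_)
              exact Subgroup.mem_centralizer_singleton_iff.1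
                ((sup_le (AVle _) (zle cxρ) : X₁ ≤ Subgroup.centralizer {ρ' (x : T ⧸ V)}) hu)
            rw [← SetLike.mem_coe, Subgroup.coe_mul_of_right_le_normalizer_left _ _ hn] at hv
            obtain ⟨r, hr, b, hb, hrb⟩ := hv
            obtain ⟨i, rfl⟩ := Subgroup.mem_zpowers_iff.1 hb
            have h2 : ρ' (x : T ⧸ V) ^ (2 : ℤ) ∈ X₁ := by rw [zpow_two]; exact hmem
            rcases Int.even_or_odd i with ⟨j, rfl⟩ | ⟨j, rfl⟩
            · refine ⟨(⟨r * ρ' (x : T ⧸ V) ^ (j + j), mul_mem hr ?_⟩, 0), Subtype.ext (by simpa using hrb)⟩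
              rw [← two_mul, zpow_mul]; exact zpow_mem h2 j
            · refine ⟨(⟨r * ρ' (x : T ⧸ V) ^ (2 * j), mul_mem hr (by rw [zpow_mul]; exact zpow_mem h2 j)⟩, 1),
                Subtype.ext ?_⟩
              simp only [Fin.val_one, pow_one]
              rw [← hrb]; simp [zpow_add, mul_assoc]
          refine (Nat.card_le_card_of_surjective _ hsurj).trans ?_
          rw [Nat.card_prod, Nat.card_fin]
          omega
        set L := AV ⊔ Subgroup.zpowers (w : T ⧸ V) ⊔ Subgroup.zpowers (ρ' (w : T ⧸ V))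
        have hρw : ρ' (w : T ⧸ V) ∈ X := by
          have hXρ : X ≤ X.comap ρ'.toMonoidHom := by
            refine sup_le (sup_le (fun p hp => Subgroup.mem_sup_left (Subgroup.mem_sup_left (hAVρ p hp))) ?_) ?_
            · exact Subgroup.zpowers_le.2 (Subgroup.mem_sup_right (Subgroup.mem_zpowers _))
            · rw [Subgroup.zpowers_le]
              show ρ' (ρ' (x : T ⧸ V)) ∈ X
              rw [eq_inv_of_mul_eq_one_right (hf'.prod_eq_one (x : T ⧸ V))]
              exact inv_mem (mul_mem (Subgroup.mem_sup_left (Subgroup.mem_sup_right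
                (Subgroup.mem_zpowers _))) (Subgroup.mem_sup_right (Subgroup.mem_zpowers _)))
          exact hXρ h
        have hLX : L ≤ X := sup_le (sup_le (le_sup_left.trans le_sup_left)
          (Subgroup.zpowers_le.2 h)) (Subgroup.zpowers_le.2 hρw)
        have hLK : L ≤ K := sup_le (sup_le hAK (Subgroup.zpowers_le.2 hwK))
          (Subgroup.zpowers_le.2 (hKρ _ hwK))
        have hwρ : ρ' (w : T ⧸ V) ∉ AV ⊔ Subgroup.zpowers (w : T ⧸ V) := by
          intro hm
          apply hwA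
          rw [← SetLike.mem_coe, Subgroup.coe_mul_of_left_le_normalizer_right _ _ (fun r hr =>
            Subgroup.centralizer_le_normalizer _ (Subgroup.mem_centralizer_iff.2 fun s _ =>
              Subgroup.mem_center_iff.1 (hW'.le_center hr) s))] at hm
          obtain ⟨r, hr, v, hv, hrv⟩ := hm

          replace hrv : r * v = _ := hrv
          obtain ⟨i, rfl⟩ := Subgroup.mem_zpowers_iff.1 hv
          have h2 : (w : T ⧸ V) ^ (2 : ℤ) ∈ AV := by rw [zpow_two]; exact hS.sq _
          rcases Int.even_or_odd i with ⟨j, rfl⟩ | ⟨j, rfl⟩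
          · have : ρ' (w : T ⧸ V) ∈ AV := by
              rw [← hrv, ← two_mul, zpow_mul]; exact mul_mem hr (zpow_mem h2 j)
            have := hAVρ _ (hAVρ _ this)
            rwa [hf'.cube] at this
          · refine fixA _ ?_
            have hr' : r * (w : T ⧸ V) = (w : T ⧸ V) * r :=
              (Subgroup.mem_center_iff.1 (hW'.le_center hr) _).symm
            rw [← hrv, add_comm, zpow_add, zpow_one, zpow_mul, ← mul_assoc r, hr', mul_assoc,
              inv_mul_cancel_left]
            exact mul_mem hr (zpow_mem h2 j)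
        have k1 : 2 * Nat.card ↥AV ≤ Nat.card ↥(AV ⊔ Subgroup.zpowers (w : T ⧸ V)) :=
          two_mul_card_le le_sup_left (Subgroup.mem_sup_right (Subgroup.mem_zpowers _)) hwA
        have k2 : 2 * Nat.card ↥(AV ⊔ Subgroup.zpowers (w : T ⧸ V)) ≤ Nat.card ↥L :=
          two_mul_card_le le_sup_left (Subgroup.mem_sup_right (Subgroup.mem_zpowers _)) hwρ
        rw [hAV.2] at k1
        have hLeq : L = X := Subgroup.eq_of_le_of_card_ge hLX (by omega)
        exact hxK (hLK (hLeq.ge (Subgroup.mem_sup_left (Subgroup.mem_sup_right (Subgroup.mem_zpowers _)))))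
      have hwρY : ρ' (w : T ⧸ V) ∉ Y₁ := by
        intro hm
        have hXn : Subgroup.zpowers (w : T ⧸ V) ≤ Subgroup.normalizer (X : Set (T ⧸ V)) := by
          rw [Subgroup.zpowers_le]
          refine Subgroup.centralizer_le_normalizer _ (Subgroup.mem_centralizer_iff.2 fun u hu => ?_)
          exact Subgroup.mem_centralizer_singleton_iff.1
            ((sup_le (sup_le (AVle _) (zle (cm hπ))) (zle (cm e2)) :
              X ≤ Subgroup.centralizer {(w : T ⧸ V)}) hu)
        rw [← SetLike.mem_coe, Subgroup.coe_mul_of_right_le_normalizer_left _ _ hXn] at hm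
        obtain ⟨r, hr, v, hv, hrv⟩ := hm

        replace hrv : r * v = _ := hrv
        obtain ⟨i, rfl⟩ := Subgroup.mem_zpowers_iff.1 hv
        have h2 : (w : T ⧸ V) ^ (2 : ℤ) ∈ X := by
          rw [zpow_two]; exact Subgroup.mem_sup_left (Subgroup.mem_sup_left (hS.sq _))
        have hXρ : ∀ p ∈ X, ρ' p ∈ X := by
          have hle : X ≤ X.comap ρ'.toMonoidHom := by
            refine sup_le (sup_le (fun p hp => Subgroup.mem_sup_left (Subgroup.mem_sup_left (hAVρ p hp))) ?_) ?_
            · exact Subgroup.zpowers_le.2 (Subgroup.mem_sup_right (Subgroup.mem_zpowers _))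
            · rw [Subgroup.zpowers_le]
              show ρ' (ρ' (x : T ⧸ V)) ∈ X
              rw [eq_inv_of_mul_eq_one_right (hf'.prod_eq_one (x : T ⧸ V))]
              exact inv_mem (mul_mem (Subgroup.mem_sup_left (Subgroup.mem_sup_right
                (Subgroup.mem_zpowers _))) (Subgroup.mem_sup_right (Subgroup.mem_zpowers _)))
          exact fun p hp => hle hp
        apply hwX
        rcases Int.even_or_odd i with ⟨j, rfl⟩ | ⟨j, rfl⟩
        · have : ρ' (w : T ⧸ V) ∈ X := by
            rw [← hrv, ← two_mul, zpow_mul]; exact mul_mem hr (zpow_mem h2 j)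
          have := hXρ _ (hXρ _ this)
          rwa [hf'.cube] at this
        · -- `w³ ∈ X` gives `w ∈ X`
          set w' := (w : T ⧸ V)
          set e := r * (w' ^ (2 : ℤ)) ^ j with he'
          have heX : e ∈ X := mul_mem hr (zpow_mem h2 j)
          have hρw : ρ' w' = e * w' := by
            rw [← hrv, he', zpow_add, zpow_one, zpow_mul, mul_assoc]
          have hcXw : ∀ u ∈ X, Commute w' u := fun u hu =>
            (Subgroup.mem_centralizer_singleton_iff.1
              ((sup_le (sup_le (AVle _) (zle (cm hπ))) (zle (cm e2)) :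
                X ≤ Subgroup.centralizer {(w : T ⧸ V)}) hu)).symm
          have h1 := hf'.prod_eq_one w'
          rw [hρw, map_mul, hρw] at h1
          have h3 : w' * w' * w' * (e * ρ' e * e) = 1 := by
            rw [← h1]
            simp only [mul_assoc, (hcXw e heX).left_comm, (hcXw (ρ' e) (hXρ e heX)).left_comm,
              (hcXw e heX).eq]
          have h4 : w' = (w' * w')⁻¹ * (e * ρ' e * e)⁻¹ := by
            calc w' = (w' * w')⁻¹ * (w' * w' * w') := by group
              _ = _ := by rw [eq_inv_of_mul_eq_one_left h3]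
          rw [h4]
          refine mul_mem (inv_mem ?_) (inv_mem (mul_mem (mul_mem heX (hXρ e heX)) heX))
          exact Subgroup.mem_sup_left (Subgroup.mem_sup_left (hS.sq _))
      refine Subgroup.eq_top_of_le_card _ ?_
      have k1 : 2 * Nat.card ↥AV ≤ Nat.card ↥X₁ :=
        two_mul_card_le le_sup_left (Subgroup.mem_sup_right (Subgroup.mem_zpowers _)) hxA
      have k2 : 2 * Nat.card ↥X₁ ≤ Nat.card ↥X :=
        two_mul_card_le le_sup_left (Subgroup.mem_sup_right (Subgroup.mem_zpowers _)) hθx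
      have k3 : 2 * Nat.card ↥X ≤ Nat.card ↥Y₁ :=
        two_mul_card_le le_sup_left (Subgroup.mem_sup_right (Subgroup.mem_zpowers _)) hwX
      have k4 : 2 * Nat.card ↥Y₁ ≤ Nat.card ↥Y :=
        two_mul_card_le le_sup_left (Subgroup.mem_sup_right (Subgroup.mem_zpowers _)) hwρY
      rw [hAV.2] at k1
      rw [hS.card]
      omega
    exact hx (hYab _ (hYtop.ge (Subgroup.mem_top _)) _ (hYtop.ge (Subgroup.mem_top _))).eq

theorem classify_tower {T : Type u} [Group T] [Finite T] (hT : IsPGroup 2 T) {t ρ : MulAut T}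
    {V : Subgroup T} (ht : ∀ x, t (t x) = x) (hρ : ∀ x, ρ (ρ (ρ x)) = x)
    (hcomm : ∀ x, t (ρ x) = ρ (t x)) (hV : IsFour ρ V) (hfixV : ∀ x ∈ V, ρ x = x → x = 1)
    (hCt : ∀ x, t x = x ↔ x ∈ V) :
    (Nat.card T = 16 ∧ ∀ x : T, x * x = 1) ∨ IsHomocyclic ρ ∨
      (IsSq64 ρ V ∧ ∃ a b : T, a * b ≠ b * a) :=
  classify_tower_aux _ T rfl hT t ρ V ht hcomm
    (isFpfThree_of_fixed hT ht hρ hcomm hfixV fun x hx => (hCt x).1 hx) hV hCt

end CfsgLib.TwoFpf
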